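import Mathlib.GroupTheory.GroupAction.ConjAct
import Mathlib.GroupTheory.Index
import Mathlib.GroupTheory.OrderOfElement
import Mathlib.Algebra.CharP.Two
import Mathlib.Data.ZMod.Basic
import Mathlib.Tactic

/-!
Real elements of a finite group: inverting 2-elements, real elements in classes of odd size and in
groups of odd order.
-/

namespace CfsgLib.RealElements

variable {G : Type*} [Group G] [Finite G]

/-- A real element is inverted by some 2-element. -/
theorem exists_two_element_inverting {x : G} (hx : IsConj x x⁻¹) :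
    ∃ t : G, (∃ j : ℕ, orderOf t = 2 ^ j) ∧ t * x * t⁻¹ = x⁻¹ := by
  obtain ⟨g, hg⟩ := isConj_iff.mp hx
  obtain ⟨j, m, hm, hgm⟩ := Nat.exists_eq_two_pow_mul_odd (orderOf_pos g).ne'
  obtain ⟨k, rfl⟩ := hm
  refine ⟨g ^ (2 * k + 1), ?_, ?_⟩
  · obtain ⟨i, -, hi⟩ := (Nat.dvd_prime_pow Nat.prime_two).mp (show orderOf (g ^ (2 * k + 1)) ∣ 2 ^ j
      by rw [orderOf_dvd_iff_pow_eq_one, ← pow_mul, mul_comm, ← hgm, pow_orderOf_eq_one])
    exact ⟨i, hi⟩
  · have h2 : (g ^ 2) * x * (g ^ 2)⁻¹ = x := by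
      have : g * (g * x * g⁻¹) * g⁻¹ = x := by
        conv_lhs => rw [hg]
        rw [← conj_inv, hg, inv_inv]
      have e : g ^ 2 * x * (g ^ 2)⁻¹ = g * (g * x * g⁻¹) * g⁻¹ := by rw [sq]; group
      rw [e, this]
    have hc : Commute (g ^ 2) x := mul_inv_eq_iff_eq_mul.mp h2
    rw [pow_succ', pow_mul]
    calc g * (g ^ 2) ^ k * x * (g * (g ^ 2) ^ k)⁻¹
        = g * ((g ^ 2) ^ k * x * ((g ^ 2) ^ k)⁻¹) * g⁻¹ := by group
      _ = x⁻¹ := by rw [(hc.pow_left k).eq, mul_inv_cancel_right, hg]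

/-- A real element with a class of odd size squares to one. -/
theorem sq_eq_one_of_odd_index {x : G} (hx : IsConj x x⁻¹)
    (h : Odd (Subgroup.centralizer ({x} : Set G)).index) : x ^ 2 = 1 := by
  classical
  by_contra hne
  have hidx : (Subgroup.centralizer ({x} : Set G)).index =
      (MulAction.orbit (ConjAct G) x).ncard := by
    rw [← MulAction.index_stabilizer, Subgroup.centralizer_eq_comap_stabilizer]
    exact Subgroup.index_comap_of_surjective _ ConjAct.toConjAct.surjective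
  have hfin : (MulAction.orbit (ConjAct G) x).Finite := Set.toFinite _
  have hz : (∑ _y ∈ hfin.toFinset, (1 : ZMod 2)) = 0 := by
    refine Finset.sum_involution (fun y _ => y⁻¹) (fun _ _ => by decide) ?_ ?_ (fun _ _ => inv_inv _)
    · intro y hy _ he
      rw [Set.Finite.mem_toFinset, ConjAct.mem_orbit_conjAct] at hy
      obtain ⟨c, hc⟩ := isConj_iff.mp hy.symm
      apply hne
      have : y ^ 2 = 1 := by rw [sq]; exact mul_eq_one_iff_eq_inv.mpr he.symm
      rw [← hc, conj_pow, conj_eq_one_iff] at this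
      exact this
    · intro y hy
      rw [Set.Finite.mem_toFinset, ConjAct.mem_orbit_conjAct] at hy ⊢
      obtain ⟨c, hc⟩ := isConj_iff.mp hy
      have hy' : IsConj y⁻¹ x⁻¹ := isConj_iff.mpr ⟨c, by rw [← conj_inv, hc]⟩
      exact hy'.trans hx.symm
  rw [Finset.sum_const, nsmul_one, ← Set.ncard_eq_toFinset_card _ hfin,
    ZMod.natCast_eq_zero_iff_even] at hz
  exact Nat.not_even_iff_odd.mpr (hidx ▸ h) hz

theorem eq_one_of_two_pow_of_odd {y : G} {j : ℕ} (hy : y ^ 2 ^ j = 1)
    (ho : Odd (Nat.card G)) : y = 1 := by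
  rw [← orderOf_eq_one_iff]
  exact Nat.eq_one_of_dvd_coprimes ((Nat.coprime_two_left.mpr ho).pow_left j)
    (orderOf_dvd_iff_pow_eq_one.mpr hy) (orderOf_dvd_natCard y)

/-- In a group of odd order only the identity is real. -/
theorem eq_one_of_isConj_inv {x : G} (hx : IsConj x x⁻¹) (ho : Odd (Nat.card G)) : x = 1 := by
  obtain ⟨t, ⟨j, hj⟩, ht⟩ := exists_two_element_inverting hx
  have ht1 : t = 1 := eq_one_of_two_pow_of_odd (j := j) (hj ▸ pow_orderOf_eq_one t) ho
  apply eq_one_of_two_pow_of_odd (j := 1) _ ho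
  rw [pow_one, sq]
  exact mul_eq_one_iff_eq_inv.mpr (by simpa [ht1] using ht)

end CfsgLib.RealElements
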