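import Cfsg.Agent.RealElements.Basic
import Cfsg.Agent.Small.BaerSuzuki
import Cfsg.Agent.Small.Dihedral

/-!
A finite group with no nontrivial real element of odd order has a normal Sylow 2-subgroup.
-/

namespace CfsgLib.RealElements

/-- There are no real elements of odd order except the identity. -/
def NoOddReal (G : Type*) [Group G] : Prop :=
  ∀ x : G, x ≠ 1 → Odd (orderOf x) → ¬ IsConj x x⁻¹

variable {G : Type*} [Group G] [Finite G]

theorem exists_normal_two_group (h : NoOddReal G) {t : G} (ht : orderOf t = 2) :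
    ∃ N : Subgroup G, N.Normal ∧ IsPGroup 2 N ∧ t ∈ N := by
  haveI : Fact (Nat.Prime 2) := ⟨Nat.prime_two⟩
  refine Small.baerSuzuki_elem (p := 2) t fun g => ?_
  set s := g * t * g⁻¹ with hs
  have hs2 : orderOf s = 2 := by rw [hs, Small.orderOf_conj_eq, ht]
  rcases eq_or_ne t s with hts | hts
  · rw [← hts]
    refine IsPGroup.of_card (n := 1) ?_
    rw [Set.pair_eq_singleton, ← Subgroup.zpowers_eq_closure, Nat.card_zpowers, ht, pow_one]
  obtain ⟨j, m, hm, hjm⟩ := Nat.exists_eq_two_pow_mul_odd (orderOf_pos (t * s)).ne'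
  have hu : orderOf ((t * s) ^ 2 ^ j) = m := by
    rw [orderOf_pow_of_dvd (by positivity) ⟨m, hjm⟩, hjm, Nat.mul_div_cancel_left _ (by positivity)]
  have hone : (t * s) ^ 2 ^ j = 1 := by
    by_contra hne
    refine h _ hne (hu ▸ hm) (isConj_iff.mpr ⟨t, ?_⟩)
    exact Small.invol_conj_pow (Small.invol_conj_mul ht hs2) _
  obtain ⟨i, -, hi⟩ := (Nat.dvd_prime_pow Nat.prime_two).mp (orderOf_dvd_of_pow_eq_one hone)
  refine IsPGroup.of_card (n := i + 1) ?_
  rw [Small.card_closure_pair_invol ht hs2 hts, hi, pow_succ']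

theorem noOddReal_quotient (h : NoOddReal G) (N : Subgroup G) [N.Normal] (hN : IsPGroup 2 N) :
    NoOddReal (G ⧸ N) := by
  intro x hx hxo hc
  set q := (orderOf x).minFac with hq
  have hox : orderOf x ≠ 1 := by rwa [Ne, orderOf_eq_one_iff]
  have hqp : q.Prime := Nat.minFac_prime hox
  have hqd : q ∣ orderOf x := Nat.minFac_dvd _
  have hq2 : q ≠ 2 := fun e => Nat.not_even_iff_odd.mpr hxo (even_iff_two_dvd.mpr (e ▸ hqd))
  haveI : Fact q.Prime := ⟨hqp⟩
  set y := x ^ (orderOf x / q) with hy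
  have hyo : orderOf y = q := by
    have hne : orderOf x / q ≠ 0 :=
      (Nat.div_pos (Nat.le_of_dvd (orderOf_pos x) hqd) hqp.pos).ne'
    rw [hy, orderOf_pow_of_dvd hne (Nat.div_dvd_of_dvd hqd), Nat.div_div_self hqd (orderOf_pos x).ne']
  have hyc : IsConj y y⁻¹ := by
    obtain ⟨c, hc⟩ := isConj_iff.mp hc
    exact isConj_iff.mpr ⟨c, by rw [hy, ← conj_pow, hc, inv_pow]⟩
  obtain ⟨a, ha⟩ := QuotientGroup.mk'_surjective N y
  obtain ⟨i, hi⟩ := IsPGroup.iff_orderOf.mp hN ⟨(a ^ q : G), by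
    rw [← QuotientGroup.eq_one_iff, QuotientGroup.mk_pow, show (a : G ⧸ N) = y from ha, ← hyo,
      pow_orderOf_eq_one]⟩
  rw [Subgroup.orderOf_mk] at hi
  have hz : (a ^ 2 ^ i) ^ q = 1 := by
    rw [← pow_mul, mul_comm, pow_mul, ← hi, pow_orderOf_eq_one]
  set z := a ^ 2 ^ i with hzdef
  have hzy : QuotientGroup.mk' N z = y ^ 2 ^ i := by rw [hzdef, map_pow, ha]
  have hcop : (orderOf y).Coprime (2 ^ i) := by
    rw [hyo]
    exact ((Nat.coprime_primes hqp Nat.prime_two).mpr hq2).pow_right i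
  have hzne : QuotientGroup.mk' N z ≠ 1 := by
    rw [hzy]
    intro e
    have := Nat.eq_one_of_dvd_coprimes hcop dvd_rfl (orderOf_dvd_of_pow_eq_one e)
    exact hqp.ne_one (hyo ▸ this)
  have hzo : orderOf z = q := orderOf_eq_prime hz (fun e => hzne (by rw [e, map_one]))
  obtain ⟨c, hcz⟩ : ∃ c : G, QuotientGroup.mk' N (c * z * c⁻¹) = QuotientGroup.mk' N z⁻¹ := by
    obtain ⟨c, hc⟩ := isConj_iff.mp hyc
    obtain ⟨c, rfl⟩ := QuotientGroup.mk'_surjective N c
    exact ⟨c, by rw [map_mul, map_mul, map_inv, map_inv, hzy, ← conj_pow, hc, inv_pow]⟩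
  let K : Subgroup G := (Subgroup.zpowers (QuotientGroup.mk' N z)).comap (QuotientGroup.mk' N)
  have hNK : N ≤ K := fun n hn => by
    rw [Subgroup.mem_comap, show QuotientGroup.mk' N n = 1 from (QuotientGroup.eq_one_iff n).mpr hn]
    exact one_mem _
  have hzK : z ∈ K := Subgroup.mem_comap.mpr (Subgroup.mem_zpowers _)
  obtain ⟨k, hk⟩ := IsPGroup.iff_card.mp hN
  have hKcard : Nat.card K = Nat.card N * q := by
    have h1 : N.relIndex K = q := by
      conv_lhs => rw [← QuotientGroup.ker_mk' N, Subgroup.relIndex_ker]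
      rw [Subgroup.map_comap_eq_self_of_surjective (QuotientGroup.mk'_surjective N),
        Nat.card_zpowers, hzy, hcop.orderOf_pow, hyo]
    rw [← h1, Subgroup.relIndex, ← (N.subgroupOf K).card_mul_index,
      Nat.card_congr (Subgroup.subgroupOfEquivOfLe hNK).toEquiv]
  have hw : c * z * c⁻¹ ∈ K := by
    rw [Subgroup.mem_comap, hcz, map_inv]
    exact inv_mem (Subgroup.mem_zpowers _)
  have hfac : (Nat.card K).factorization q = 1 := by
    rw [hKcard, hk, Nat.factorization_mul (by positivity) hqp.ne_zero]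
    simp [hqp.factorization_self, Nat.prime_two.factorization, Finsupp.single_apply, hq2.symm]
  let S1 : Sylow q K := Sylow.ofCard (Subgroup.zpowers ⟨z, hzK⟩) (by
    rw [Nat.card_zpowers, Subgroup.orderOf_mk, hzo, hfac, pow_one])
  let S2 : Sylow q K := Sylow.ofCard (Subgroup.zpowers ⟨c * z * c⁻¹, hw⟩) (by
    rw [Nat.card_zpowers, Subgroup.orderOf_mk, Small.orderOf_conj_eq, hzo, hfac, pow_one])
  obtain ⟨m, hm⟩ := MulAction.exists_smul_eq K S2 S1
  have hmem : (m : G) * (c * z * c⁻¹) * (m : G)⁻¹ ∈ Subgroup.zpowers z := by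
    have h1 : m * ⟨c * z * c⁻¹, hw⟩ * m⁻¹ ∈ (S1 : Subgroup K) := by
      rw [← hm, Sylow.coe_subgroup_smul]
      exact ⟨⟨c * z * c⁻¹, hw⟩, Subgroup.mem_zpowers _, rfl⟩
    obtain ⟨j, hj⟩ := h1
    exact ⟨j, by simpa using congrArg Subtype.val hj⟩
  have hinj : ∀ u ∈ Subgroup.zpowers z, QuotientGroup.mk' N u = 1 → u = 1 := by
    intro u hu he
    obtain ⟨j, hj⟩ := IsPGroup.iff_orderOf.mp hN ⟨u, (QuotientGroup.eq_one_iff u).mp he⟩
    rw [Subgroup.orderOf_mk] at hj
    rw [← orderOf_eq_one_iff]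
    refine Nat.eq_one_of_dvd_coprimes (a := 2 ^ j) (b := q)
      (((Nat.coprime_primes Nat.prime_two hqp).mpr hq2.symm).pow_left j) (hj ▸ dvd_rfl) ?_
    obtain ⟨j', rfl⟩ := hu
    rw [orderOf_dvd_iff_pow_eq_one, ← zpow_natCast, ← zpow_mul, mul_comm, zpow_mul, zpow_natCast,
      ← hzo, pow_orderOf_eq_one, one_zpow]
  have heq : (m : G) * (c * z * c⁻¹) * (m : G)⁻¹ = z⁻¹ := by
    have hmu : QuotientGroup.mk' N ((m : G) * (c * z * c⁻¹) * (m : G)⁻¹) =
        QuotientGroup.mk' N z⁻¹ := by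
      obtain ⟨i', hi'⟩ := Subgroup.mem_zpowers_iff.mp (Subgroup.mem_comap.mp m.2)
      rw [map_mul, map_mul, hcz, map_inv, map_inv, ← hi']
      group
    have := hinj _ (mul_mem hmem (Subgroup.mem_zpowers z)) (by rw [map_mul, hmu, map_inv, inv_mul_cancel])
    exact mul_eq_one_iff_eq_inv.mp this
  refine h z (fun e => hzne (by rw [e, map_one])) ?_ (isConj_iff.mpr ⟨m * c, ?_⟩)
  · rw [hzo]; exact hqp.odd_of_ne_two hq2
  · rw [← heq]; group

universe u

theorem sylow_two_normal_aux (n : ℕ) : ∀ (G : Type u) [Group G] [Finite G], Nat.card G = n →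
    NoOddReal G → ∀ P : Sylow 2 G, (P : Subgroup G).Normal := by
  induction n using Nat.strong_induction_on with
  | _ n ih =>
    intro G _ _ hn h P
    haveI : Fact (Nat.Prime 2) := ⟨Nat.prime_two⟩
    by_cases hdvd : 2 ∣ Nat.card G
    · obtain ⟨t, ht⟩ := exists_prime_orderOf_dvd_card' 2 hdvd
      obtain ⟨N, hN, hN2, htN⟩ := exists_normal_two_group h ht
      have hne : 1 < Nat.card N := Subgroup.one_lt_card_iff_ne_bot N |>.mpr fun e => by
        rw [e, Subgroup.mem_bot] at htN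
        simp [htN] at ht
      have hlt : Nat.card (G ⧸ N) < n := by
        rw [← hn, Subgroup.card_eq_card_quotient_mul_card_subgroup N]
        exact lt_mul_of_one_lt_right Nat.card_pos hne
      have hPN := ih _ hlt (G ⧸ N) rfl (noOddReal_quotient h N hN2)
        (P.mapSurjective (QuotientGroup.mk'_surjective N))
      have hNP : N ≤ (P : Subgroup G) := hN2.le_sylow_of_normal P
      have : (P : Subgroup G) = (((P.mapSurjective (QuotientGroup.mk'_surjective N) :
          Sylow 2 (G ⧸ N)) : Subgroup (G ⧸ N))).comap (QuotientGroup.mk' N) := by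
        rw [Sylow.coe_mapSurjective, Subgroup.comap_map_eq, QuotientGroup.ker_mk',
          sup_of_le_left hNP]
      rw [this]
      exact hPN.comap _
    · have : (P : Subgroup G) = ⊥ := by
        rw [Subgroup.eq_bot_iff_card]
        obtain ⟨k, hk⟩ := IsPGroup.iff_card.mp P.2
        rcases k with _ | k
        · simpa using hk
        · exact absurd ((hk ▸ dvd_pow_self 2 k.succ_ne_zero).trans (Subgroup.card_subgroup_dvd_card _)) hdvd
      rw [this]
      infer_instance

theorem sylow_two_normal (h : NoOddReal G) (P : Sylow 2 G) : (P : Subgroup G).Normal :=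
  sylow_two_normal_aux _ G rfl h P

end CfsgLib.RealElements
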