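import Cfsg.Agent.Coprime.Action
import Cfsg.Agent.Transfer.Frobenius
import Mathlib.Tactic

/-!
If every real 2-element of a finite group is central, an element of odd order normalising a
2-subgroup centralises it; hence there is a normal 2-complement.
-/

namespace CfsgLib.RealElements

open scoped commutatorElement

variable {G : Type*} [Group G] [Finite G]

/-- All real 2-elements are central. -/
def RealTwoCentral (G : Type*) [Group G] : Prop :=
  ∀ x : G, (∃ j : ℕ, orderOf x = 2 ^ j) → IsConj x x⁻¹ → x ∈ Subgroup.center G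

theorem orderOf_two_pow_of_mem {U : Subgroup G} (hU : IsPGroup 2 U) {x : G} (hx : x ∈ U) :
    ∃ j, orderOf x = 2 ^ j := by
  obtain ⟨j, hj⟩ := IsPGroup.iff_orderOf.mp hU ⟨x, hx⟩
  exact ⟨j, by rwa [Subgroup.orderOf_mk] at hj⟩

theorem mem_centralizer_of_step (h : RealTwoCentral G) {g : G}
    (hg : (orderOf g).Coprime 2) (U : Subgroup G) (hU : IsPGroup 2 U)
    (hgU : g ∈ Subgroup.normalizer (U : Set G))
    (ih : ∀ V : Subgroup G, V < U → g ∈ Subgroup.normalizer (V : Set G) →
      g ∈ Subgroup.centralizer (V : Set G)) :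
    g ∈ Subgroup.centralizer (U : Set G) := by
  by_contra hcon
  haveI : Fact (Nat.Prime 2) := ⟨Nat.prime_two⟩
  haveI hUnil : Group.IsNilpotent U := hU.isNilpotent
  set A := Subgroup.zpowers g with hA
  have hAU : A ≤ Subgroup.normalizer (U : Set G) := Subgroup.zpowers_le.mpr hgU
  obtain ⟨k, hk⟩ := IsPGroup.iff_card.mp hU
  have hcop : (Nat.card A).Coprime (Nat.card U) := by
    rw [Nat.card_zpowers, hk]; exact hg.pow_right k
  have hconjU : ∀ u ∈ U, g * u * g⁻¹ ∈ U := fun u hu => (Subgroup.mem_normalizer_iff.mp hgU u).mp hu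
  have fixes : ∀ V : Subgroup G, V < U → g ∈ Subgroup.normalizer (V : Set G) →
      ∀ v ∈ V, g * v * g⁻¹ = v := fun V hV hn v hv => by
    rw [← Subgroup.mem_centralizer_iff.mp (ih V hV hn) v hv, mul_inv_cancel_right]
  have hgen : ∀ S : Subgroup G, (∀ u ∈ U, u⁻¹ * (g * u * g⁻¹) ∈ S) → S ≤ U → S = U := by
    intro S hS hSU
    by_contra hne
    let T : Subgroup G := Subgroup.closure ((fun u => u⁻¹ * (g * u * g⁻¹)) '' (U : Set G))
    have hTS : T ≤ S := (Subgroup.closure_le _).mpr (by rintro _ ⟨u, hu, rfl⟩; exact hS u hu)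
    have hTU : T < U := lt_of_le_of_lt hTS (lt_of_le_of_ne hSU hne)
    have hinv : T.map (MulAut.conj g).toMonoidHom ≤ T := by
      rw [MonoidHom.map_closure, Subgroup.closure_le]
      rintro _ ⟨_, ⟨u, hu, rfl⟩, rfl⟩
      exact Subgroup.subset_closure ⟨g * u * g⁻¹, hconjU u hu, by simp [mul_assoc]⟩
    have hTn : g ∈ Subgroup.normalizer (T : Set G) := Subgroup.mem_normalizer_iff_map_conj_eq.mpr
      (Subgroup.eq_of_le_of_card_ge hinv
        (Subgroup.card_map_of_injective (MulAut.conj g).injective).ge)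
    apply hcon
    rw [Subgroup.mem_centralizer_iff]
    intro u hu
    set c := u⁻¹ * (g * u * g⁻¹) with hc
    have hcfix : g * c * g⁻¹ = c := fixes T hTU hTn c (Subgroup.subset_closure ⟨u, hu, rfl⟩)
    have hpow : ∀ n : ℕ, g ^ n * u * (g ^ n)⁻¹ = u * c ^ n := by
      intro n
      induction n with
      | zero => simp
      | succ n ihn =>
        calc g ^ (n + 1) * u * (g ^ (n + 1))⁻¹ = g * (g ^ n * u * (g ^ n)⁻¹) * g⁻¹ := by
              rw [pow_succ']; group
          _ = g * u * g⁻¹ * (g * c * g⁻¹) ^ n := by rw [ihn, conj_pow]; group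
          _ = u * c ^ (n + 1) := by
              rw [hcfix, pow_succ', ← mul_assoc u c, hc, mul_inv_cancel_left]
    have h1 : c ^ orderOf g = 1 := by
      have := hpow (orderOf g)
      simpa [pow_orderOf_eq_one] using this.symm
    obtain ⟨j, hj⟩ := orderOf_two_pow_of_mem hU (mul_mem (inv_mem hu) (hconjU u hu))
    have hc1 : c = 1 := orderOf_eq_one_iff.mp (Nat.eq_one_of_dvd_coprimes (hg.pow_right j)
      (orderOf_dvd_of_pow_eq_one h1) (hj ▸ dvd_rfl))
    rw [hc, inv_mul_eq_one, eq_mul_inv_iff_mul_eq] at hc1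
    exact hc1
  have hcentral : ∀ u ∈ U, u ∈ Subgroup.center G → g * u * g⁻¹ = u := fun u _ hu => by
    rw [Subgroup.mem_center_iff.mp hu g, mul_inv_cancel_right]
  have hex : ∃ x ∈ U, ∃ v ∈ U, x * v ≠ v * x := by
    by_contra hab
    push Not at hab
    have hab' : ∀ a ∈ U, ∀ b ∈ U, Commute a b := fun a ha b hb => hab a ha b hb
    let V : Subgroup G :=
      { carrier := {x | x ∈ U ∧ x ^ 2 = 1}
        one_mem' := ⟨one_mem _, one_pow 2⟩
        mul_mem' := fun {a b} ha hb => ⟨mul_mem ha.1 hb.1,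
          by rw [(hab' a ha.1 b hb.1).mul_pow, ha.2, hb.2, one_mul]⟩
        inv_mem' := fun {a} ha => ⟨inv_mem ha.1, by rw [inv_pow, ha.2, inv_one]⟩ }
    have hV : ∀ v ∈ V, g * v * g⁻¹ = v := fun v hv => by
      refine hcentral v hv.1 (h v (orderOf_two_pow_of_mem hU hv.1) ?_)
      rw [show v⁻¹ = v from inv_eq_of_mul_eq_one_right (by rw [← sq]; exact hv.2)]
    have hall : ∀ (n : ℕ) (u : G), u ∈ U → orderOf u ≤ n → g * u * g⁻¹ = u := by
      intro n
      induction n with
      | zero => intro u _ hn; exact absurd hn (orderOf_pos u).not_ge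
      | succ n ihn =>
        intro u hu hn
        by_cases hu2 : u ^ 2 = 1
        · exact hV u ⟨hu, hu2⟩
        have hsq : g * u ^ 2 * g⁻¹ = u ^ 2 := by
          refine ihn _ (pow_mem hu 2) ?_
          obtain ⟨j, hj⟩ := orderOf_two_pow_of_mem hU hu
          have hdiv : 2 ∣ orderOf u := by
            rcases j with _ | j
            · exact absurd (by simp [orderOf_eq_one_iff.mp (hj.trans (pow_zero 2))]) hu2
            · exact hj ▸ dvd_pow_self 2 j.succ_ne_zero
          rw [orderOf_pow_of_dvd two_ne_zero hdiv]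
          have := Nat.div_lt_self (orderOf_pos u) one_lt_two
          omega
        set c := u⁻¹ * (g * u * g⁻¹) with hc
        have hcU : c ∈ U := mul_mem (inv_mem hu) (hconjU u hu)
        have hc2 : c ^ 2 = 1 := by
          rw [hc, (hab' _ (inv_mem hu) _ (hconjU u hu)).mul_pow, conj_pow, hsq, inv_pow,
            inv_mul_cancel]
        have hcfix := hV c ⟨hcU, hc2⟩
        have hpow : ∀ m : ℕ, g ^ m * u * (g ^ m)⁻¹ = u * c ^ m := by
          intro m
          induction m with
          | zero => simp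
          | succ m ihm =>
            calc g ^ (m + 1) * u * (g ^ (m + 1))⁻¹ = g * (g ^ m * u * (g ^ m)⁻¹) * g⁻¹ := by
                  rw [pow_succ']; group
              _ = g * u * g⁻¹ * (g * c * g⁻¹) ^ m := by rw [ihm, conj_pow]; group
              _ = u * c ^ (m + 1) := by
                  rw [hcfix, pow_succ', ← mul_assoc u c, hc, mul_inv_cancel_left]
        have h1 : c ^ orderOf g = 1 := by
          have := hpow (orderOf g)
          simpa [pow_orderOf_eq_one] using this.symm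
        have hc1 : c = 1 := orderOf_eq_one_iff.mp (Nat.eq_one_of_dvd_coprimes hg
          (orderOf_dvd_of_pow_eq_one h1) (orderOf_dvd_of_pow_eq_one hc2))
        rw [hc, inv_mul_eq_one] at hc1
        exact hc1.symm
    exact hcon (Subgroup.mem_centralizer_iff.mpr fun u hu =>
      (eq_mul_inv_iff_mul_eq.mp (hall _ u hu le_rfl).symm))
  -- proper invariant normal subgroups of `U` are central in `U`
  have hcent : ∀ V : Subgroup G, V < U → g ∈ Subgroup.normalizer (V : Set G) →
      (∀ u ∈ U, ∀ v ∈ V, u * v * u⁻¹ ∈ V) → ∀ v ∈ V, ∀ u ∈ U, u * v = v * u := by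
    intro V hV hn hVU v hv u hu
    let S : Subgroup G := U ⊓ Subgroup.centralizer (V : Set G)
    have hS : S = U := hgen S (fun w hw => ?_) inf_le_left
    · exact (Subgroup.mem_centralizer_iff.mp ((hS ▸ hu : u ∈ S).2) v hv).symm
    · refine Subgroup.mem_inf.mpr ⟨U.mul_mem (U.inv_mem hw) (hconjU w hw),
        Subgroup.mem_centralizer_iff.mpr fun x hx => ?_⟩
      have e1 : g * (w * x * w⁻¹) * g⁻¹ = w * x * w⁻¹ := fixes V hV hn _ (hVU w hw x hx)
      have e2 : g * x * g⁻¹ = x := fixes V hV hn x hx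
      have e3 : g * w * g⁻¹ * x * (g * w * g⁻¹)⁻¹ = w * x * w⁻¹ := by
        rw [← e1]
        conv_lhs => rw [← e2]
        group
      calc x * (w⁻¹ * (g * w * g⁻¹)) = w⁻¹ * (w * x * w⁻¹) * (g * w * g⁻¹) := by group
        _ = w⁻¹ * (g * w * g⁻¹ * x * (g * w * g⁻¹)⁻¹) * (g * w * g⁻¹) := by rw [e3]
        _ = w⁻¹ * (g * w * g⁻¹) * x := by group
  -- the derived subgroup
  set D : Subgroup G := ⁅U, U⁆ with hD
  have hgD : g ∈ Subgroup.normalizer (D : Set G) :=
    Subgroup.mem_normalizer_iff_map_conj_eq.mpr (by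
      change D.map (MulAut.conj g).toMonoidHom = D
      have hm : U.map (MulAut.conj g).toMonoidHom = U :=
        Subgroup.mem_normalizer_iff_map_conj_eq.mp hgU
      rw [hD, Subgroup.map_commutator, hm])
  have hDU : D < U := by
    refine lt_of_le_of_ne (Subgroup.commutator_le_self U) fun e => ?_
    haveI : Nontrivial U := by
      obtain ⟨x, hx, v, hv, hne⟩ := hex
      exact (Subgroup.nontrivial_iff_exists_ne_one U).mpr ⟨x, hx, fun e => hne (by simp [e])⟩
    have htop : commutator U = ⊤ := by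
      apply Subgroup.map_injective U.subtype_injective
      rw [Subgroup.map_subtype_commutator, ← hD, e, ← MonoidHom.range_eq_map, Subgroup.range_subtype]
    exact (Group.IsSolvable.commutator_lt_top_of_nontrivial U).ne htop
  have hDconj : ∀ u ∈ U, ∀ v ∈ D, u * v * u⁻¹ ∈ D := fun u hu v hv =>
    (Subgroup.mem_normalizer_iff.mp
      ((Subgroup.normalizer_commutator_ge_left U U) hu) v).mp hv
  have hDc := hcent D hDU hgD hDconj
  have hDfix := fixes D hDU hgD
  let Z : Subgroup G := U ⊓ Subgroup.centralizer (U : Set G)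
  have hDle : D ≤ Z := fun d hd =>
    ⟨hDU.le hd, Subgroup.mem_centralizer_iff.mpr fun u hu => hDc d hd u hu⟩
  have hZfix : ∀ z ∈ Z, g * z * g⁻¹ = z := by
    refine fixes Z (lt_of_le_of_ne inf_le_left fun e => ?_) ?_
    · obtain ⟨x, hx, v, hv, hne⟩ := hex
      exact hne (Subgroup.mem_centralizer_iff.mp ((e.symm ▸ hx : x ∈ Z).2) v hv).symm
    · refine Subgroup.mem_normalizer_iff_map_conj_eq.mpr (Subgroup.eq_of_le_of_card_ge ?_
        (Subgroup.card_map_of_injective (MulAut.conj g).injective).ge)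
      rintro _ ⟨z, hz, rfl⟩
      refine ⟨hconjU z hz.1, Subgroup.mem_centralizer_iff.mpr fun u hu => ?_⟩
      have hu' : g⁻¹ * u * g ∈ U := by
        refine (Subgroup.mem_normalizer_iff.mp hgU _).mpr ?_
        simpa [mul_assoc] using hu
      have := Subgroup.mem_centralizer_iff.mp hz.2 _ hu'
      calc u * (g * z * g⁻¹) = g * ((g⁻¹ * u * g) * z) * g⁻¹ := by group
        _ = g * (z * (g⁻¹ * u * g)) * g⁻¹ := by rw [this]
        _ = g * z * g⁻¹ * u := by group
  have hcomm : ∀ a ∈ U, ∀ b ∈ U, ⁅a, b⁆ ∈ D := fun a ha b hb =>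
    Subgroup.commutator_mem_commutator ha hb
  have hDmove : ∀ d ∈ D, ∀ u ∈ U, u * d * u⁻¹ = d := fun d hd u hu => by
    rw [hDc d hd u hu, mul_inv_cancel_right]
  have hbil : ∀ a ∈ U, ∀ b ∈ U, ∀ c ∈ U, ⁅a * b, c⁆ = ⁅a, c⁆ * ⁅b, c⁆ := by
    intro a ha b hb c hc
    rw [commutatorElement_mul_left_eq_conj_mul, hDmove _ (hcomm b hb c hc) a ha]
    exact (hDc _ (hcomm b hb c hc) _ (hDU.le (hcomm a ha c hc))).symm
  have hbil' : ∀ a ∈ U, ∀ b ∈ U, ∀ c ∈ U, ⁅a, b * c⁆ = ⁅a, b⁆ * ⁅a, c⁆ := by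
    intro a ha b hb c hc
    rw [commutatorElement_mul_right_eq_mul_conj, mul_assoc, mul_assoc, ← mul_assoc b, hDmove _ (hcomm a ha c hc) b hb]
  -- squares are central in `U`
  have hsqC : ∀ u ∈ U, u ^ 2 ∈ Z := by
    intro u hu
    let W : Subgroup G := Subgroup.closure ((fun u : G => u ^ 2) '' (U : Set G)) ⊔ D
    have hWU : W ≤ U := sup_le ((Subgroup.closure_le _).mpr (by
      rintro _ ⟨w, hw, rfl⟩; exact pow_mem hw 2)) hDU.le
    have hWn : g ∈ Subgroup.normalizer (W : Set G) := by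
      refine Subgroup.mem_normalizer_iff_map_conj_eq.mpr (Subgroup.eq_of_le_of_card_ge ?_
        (Subgroup.card_map_of_injective (MulAut.conj g).injective).ge)
      change W.map (MulAut.conj g).toMonoidHom ≤ W
      rw [Subgroup.map_sup, MonoidHom.map_closure]
      refine sup_le_sup (Subgroup.closure_mono ?_) ?_
      · rintro _ ⟨_, ⟨w, hw, rfl⟩, rfl⟩
        exact ⟨g * w * g⁻¹, hconjU w hw, by simp [conj_pow]⟩
      · exact (Subgroup.mem_normalizer_iff_map_conj_eq.mp hgD).le
    have hWconj : ∀ a ∈ U, ∀ v ∈ W, a * v * a⁻¹ ∈ W := by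
      intro a ha v hv
      have hd : ⁅a, v⁆ ∈ W := Subgroup.mem_sup_right (hcomm a ha v (hWU hv))
      simpa [commutatorElement_def, mul_assoc] using mul_mem hd hv
    have hWlt : W < U := by
      refine lt_of_le_of_ne hWU fun e => ?_
      haveI : Nontrivial U := by
        obtain ⟨x, hx, v, hv, hne⟩ := hex
        exact (Subgroup.nontrivial_iff_exists_ne_one U).mpr ⟨x, hx, fun e => hne (by simp [e])⟩
      obtain ⟨M, hM, -⟩ := (eq_top_or_exists_le_coatom (⊥ : Subgroup U)).resolve_left bot_ne_top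
      haveI : M.Normal := Subgroup.NormalizerCondition.normal_of_coatom M
        Group.normalizerCondition_of_isNilpotent hM
      have hidx : M.index = 2 := by
        obtain ⟨i, hi⟩ := (hU.index M)
        have hc1 : ∀ K : Subgroup (U ⧸ M), K = ⊥ ∨ K = ⊤ := fun K => by
          rcases hM.le_iff.mp (show M ≤ K.comap (QuotientGroup.mk' M) by
            intro m hm
            rw [Subgroup.mem_comap, show QuotientGroup.mk' M m = 1 from
              (QuotientGroup.eq_one_iff m).mpr hm]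
            exact one_mem K) with e | e
          · right
            rw [← Subgroup.map_comap_eq_self_of_surjective (QuotientGroup.mk'_surjective M) K, e,
              Subgroup.map_top_of_surjective _ (QuotientGroup.mk'_surjective M)]
          · left
            rw [← Subgroup.map_comap_eq_self_of_surjective (QuotientGroup.mk'_surjective M) K, e,
              QuotientGroup.map_mk'_self]
        have hi0 : i ≠ 0 := fun e => hM.1 (Subgroup.index_eq_one.mp (by rw [hi, e, pow_zero]))
        obtain ⟨y, hy⟩ := exists_prime_orderOf_dvd_card' (G := U ⧸ M) 2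
          (by rw [← Subgroup.index_eq_card, hi]; exact dvd_pow_self 2 hi0)
        rcases hc1 (Subgroup.zpowers y) with e | e
        · rw [Subgroup.zpowers_eq_bot] at e; simp [e] at hy
        · have hcy := congrArg (fun K : Subgroup (U ⧸ M) => Nat.card K) e
          simp only [Nat.card_zpowers, hy, Subgroup.card_top] at hcy
          rw [Subgroup.index_eq_card, ← hcy]
      have hsqM : ∀ w : U, w ^ 2 ∈ M := fun w => hidx ▸ Subgroup.pow_index_mem M w
      have hcM : commutator U ≤ M := by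
        rw [commutator_def, Subgroup.commutator_le]
        intro a _ b _
        have h3 : ⁅a, b⁆ = a ^ 2 * (a⁻¹ * b) ^ 2 * (b⁻¹) ^ 2 := by
          rw [commutatorElement_def, sq, sq, sq]; group
        rw [h3]
        exact mul_mem (mul_mem (hsqM a) (hsqM _)) (hsqM _)
      have : W ≤ M.map U.subtype := by
        refine sup_le ((Subgroup.closure_le _).mpr ?_) ?_
        · rintro _ ⟨w, hw, rfl⟩
          exact ⟨⟨w, hw⟩ ^ 2, hsqM _, rfl⟩
        · rw [hD, ← Subgroup.map_subtype_commutator]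
          exact Subgroup.map_mono hcM
      apply hM.1
      rw [eq_top_iff]
      intro w _
      obtain ⟨m, hm, hmw⟩ := this (e.symm ▸ w.2 : (w : G) ∈ W)
      exact Subtype.ext hmw ▸ hm
    exact ⟨pow_mem hu 2, Subgroup.mem_centralizer_iff.mpr fun a ha =>
      hcent W hWlt hWn hWconj _ (Subgroup.mem_sup_left (Subgroup.subset_closure ⟨u, hu, rfl⟩)) a ha⟩
  have hD2 : ∀ d ∈ D, d ^ 2 = 1 := by
    intro d hd
    have hle : D ≤
        ({ carrier := {d | d ∈ D ∧ d ^ 2 = 1}
           one_mem' := ⟨one_mem _, one_pow 2⟩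
           mul_mem' := fun {a b} ha hb => ⟨mul_mem ha.1 hb.1, by
              rw [Commute.mul_pow (hDc b hb.1 a (hDU.le ha.1)), ha.2, hb.2, one_mul]⟩
           inv_mem' := fun {a} ha => ⟨inv_mem ha.1, by rw [inv_pow, ha.2, inv_one]⟩ } : Subgroup G) := by
      conv_lhs => rw [hD]
      rw [Subgroup.commutator_le]
      intro a ha b hb
      refine ⟨hcomm a ha b hb, ?_⟩
      rw [sq, ← hbil a ha a ha b hb, ← sq, commutatorElement_eq_one_iff_mul_comm]
      exact (Subgroup.mem_centralizer_iff.mp (hsqC a ha).2 b hb).symm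
    exact (hle hd).2
  -- every square lies in the derived subgroup
  let S : Subgroup G :=
    { carrier := {u | u ∈ U ∧ u ^ 2 ∈ D}
      one_mem' := ⟨one_mem _, by rw [one_pow]; exact one_mem D⟩
      mul_mem' := fun {a b} ha hb => ⟨mul_mem ha.1 hb.1, by
        have e : (a * b) ^ 2 = (a * ⁅b, a⁆ * a⁻¹) * (a ^ 2 * b ^ 2) := by
          rw [commutatorElement_def, sq, sq, sq]; group
        rw [e]
        exact mul_mem (hDconj a ha.1 _ (hcomm b hb.1 a ha.1)) (mul_mem ha.2 hb.2)⟩
      inv_mem' := fun {a} ha => ⟨inv_mem ha.1, by rw [inv_pow]; exact inv_mem ha.2⟩ }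
  have hS : S = U := by
    refine hgen S (fun u hu => ⟨mul_mem (inv_mem hu) (hconjU u hu), ?_⟩) (fun u hu => hu.1)
    have h1 : (g * u * g⁻¹) ^ 2 = u ^ 2 := by rw [conj_pow]; exact hZfix _ (hsqC u hu)
    have e : (u⁻¹ * (g * u * g⁻¹)) ^ 2 =
        (u⁻¹ * ⁅g * u * g⁻¹, u⁻¹⁆ * u) * ((u⁻¹) ^ 2 * (g * u * g⁻¹) ^ 2) := by
      rw [commutatorElement_def, sq, sq, sq]; group
    rw [e, h1, inv_pow, inv_mul_cancel, mul_one]
    simpa using hDconj u⁻¹ (inv_mem hu) _ (hcomm _ (hconjU u hu) _ (inv_mem hu))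
  obtain ⟨x, hxU, v, hv, hxv⟩ := hex
  have hxS : x ^ 2 ∈ D := (hS.symm ▸ hxU : x ∈ S).2
  let M : Subgroup G :=
    { carrier := {d | ∃ y ∈ U, ⁅x, y⁆ = d}
      one_mem' := ⟨1, one_mem _, by simp⟩
      mul_mem' := by
        rintro _ _ ⟨a, ha, rfl⟩ ⟨b, hb, rfl⟩
        exact ⟨a * b, mul_mem ha hb, hbil' x hxU a ha b hb⟩
      inv_mem' := by
        rintro _ ⟨a, ha, rfl⟩
        refine ⟨a⁻¹, inv_mem ha, eq_inv_of_mul_eq_one_left ?_⟩
        rw [← hbil' x hxU a⁻¹ (inv_mem ha) a ha, inv_mul_cancel, commutatorElement_one_right] }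
  have hMD : M ≤ D := by rintro _ ⟨y, hy, rfl⟩; exact hcomm x hxU y hy
  let R : Subgroup G :=
    { carrier := {u | u ∈ U ∧ ∀ w ∈ U, ⁅u, w⁆ ∈ M}
      one_mem' := ⟨one_mem _, fun w _ => by rw [commutatorElement_one_left]; exact one_mem M⟩
      mul_mem' := fun {a b} ha hb => ⟨mul_mem ha.1 hb.1, fun w hw => by
        rw [hbil a ha.1 b hb.1 w hw]; exact mul_mem (ha.2 w hw) (hb.2 w hw)⟩
      inv_mem' := fun {a} ha => ⟨inv_mem ha.1, fun w hw => by
        have e : ⁅a⁻¹, w⁆ = ⁅a, w⁆⁻¹ := by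
          refine eq_inv_of_mul_eq_one_left ?_
          rw [← hbil a⁻¹ (inv_mem ha.1) a ha.1 w hw, inv_mul_cancel, commutatorElement_one_left]
        rw [e]; exact inv_mem (ha.2 w hw)⟩ }
  have hxR : x ∈ R := ⟨hxU, fun w hw => ⟨w, hw, rfl⟩⟩
  have hRn : g ∈ Subgroup.normalizer (R : Set G) := by
    refine Subgroup.mem_normalizer_iff_map_conj_eq.mpr (Subgroup.eq_of_le_of_card_ge ?_
      (Subgroup.card_map_of_injective (MulAut.conj g).injective).ge)
    rintro _ ⟨u, hu, rfl⟩
    refine ⟨hconjU u hu.1, fun w hw => ?_⟩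
    have hw' : g⁻¹ * w * g ∈ U :=
      (Subgroup.mem_normalizer_iff.mp hgU _).mpr (by simpa [mul_assoc] using hw)
    change ⁅g * u * g⁻¹, w⁆ ∈ M
    have e : ⁅g * u * g⁻¹, w⁆ = g * ⁅u, g⁻¹ * w * g⁆ * g⁻¹ := by
      simp [commutatorElement_def, mul_assoc]
    rw [e, hDfix _ (hcomm _ hu.1 _ hw')]
    exact hu.2 _ hw'
  have hRU : R = U := by
    by_contra hne
    have hlt : R < U := lt_of_le_of_ne (fun u hu => hu.1) hne
    refine hxv ((hcent R hlt hRn (fun a ha u hu => ?_) x hxR v hv).symm)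
    refine ⟨mul_mem (mul_mem ha hu.1) (inv_mem ha), fun w hw => ?_⟩
    have e : a * u * a⁻¹ = ⁅a, u⁆ * u := by simp [commutatorElement_def, mul_assoc]
    rw [e, hbil _ (hDU.le (hcomm a ha u hu.1)) u hu.1 w hw]
    refine mul_mem ?_ (hu.2 w hw)
    rw [commutatorElement_eq_one_iff_mul_comm.mpr (hDc _ (hcomm a ha u hu.1) w hw).symm]
    exact one_mem M
  have hDM : D ≤ M := by
    rw [hD, Subgroup.commutator_le]
    exact fun a ha b hb => (hRU.symm ▸ ha : a ∈ R).2 b hb
  obtain ⟨y, hy, hyx⟩ := hDM hxS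
  have hreal : IsConj x x⁻¹ := by
    refine isConj_iff.mpr ⟨y, ?_⟩
    have hx4 : x ^ 4 = 1 := by rw [show (4 : ℕ) = 2 * 2 from rfl, pow_mul, hD2 _ hxS]
    have e : y * x * y⁻¹ = (x ^ 2)⁻¹ * x := by
      rw [← hyx, commutatorElement_def]; group
    rw [e, sq]; group
  exact hxv ((Subgroup.mem_center_iff.mp
    (h x (orderOf_two_pow_of_mem hU hxU) hreal) v).symm)

theorem hasNormalPComplement_two (h : RealTwoCentral G) : Cfsg.HasNormalPComplement 2 G := by
  haveI : Fact (Nat.Prime 2) := ⟨Nat.prime_two⟩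
  refine CfsgLib.Transfer.hasNormalPComplement_of_local default fun Q hQ g hg hg2 => ?_
  have key : ∀ U : Subgroup G, IsPGroup 2 U → g ∈ Subgroup.normalizer (U : Set G) →
      g ∈ Subgroup.centralizer (U : Set G) := by
    intro U
    induction U using WellFoundedLT.induction with
    | ind U ih =>
      intro hU hgU
      exact mem_centralizer_of_step h hg2 U hU hgU
        fun V hV hn => ih V hV (hU.to_le hV.le) hn
  exact key Q ((default : Sylow 2 G).2.to_le hQ) hg

end CfsgLib.RealElements
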